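import Mathlib
import Cfsg.Agent.H466.RealLift

/-!
# S3325, piece 13: the group theory of the complement (helper87)
-/

set_option autoImplicit false

namespace Cfsg.Agent.H87.OI.AbsComp

open Subgroup

/-- for an element `x` of a finite group some `x ^ (2 ^ a)` has odd order -/
theorem exists_odd_pow {X : Type*} [Group X] [Finite X] (x : X) : ∃ a : ℕ, Odd (orderOf (x ^ 2 ^ a)) := by
  obtain ⟨a, r, hr, h⟩ := Nat.exists_eq_two_pow_mul_odd (orderOf_pos x).ne'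
  refine ⟨a, ?_⟩
  have h1 : orderOf (x ^ 2 ^ a) = r := by
    rw [orderOf_pow, h, Nat.gcd_eq_right (Dvd.intro _ rfl), Nat.mul_div_cancel_left _ (by positivity)]
  rw [h1]; exact hr

/-- in a group with a normal subgroup of odd index -/
theorem mem_of_pow_two_pow {X : Type*} [Group X] (K : Subgroup X) [K.Normal] (hK : Odd K.index) {x : X}
    (a : ℕ) (hx : x ^ 2 ^ a ∈ K) : x ∈ K := by
  have h1 : (QuotientGroup.mk x : X ⧸ K) ^ 2 ^ a = 1 := by
    rw [← QuotientGroup.mk_pow]; exact (QuotientGroup.eq_one_iff _).2 hx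
  have h2 : (QuotientGroup.mk x : X ⧸ K) ^ K.index = 1 := by
    rw [← QuotientGroup.mk_pow]; exact (QuotientGroup.eq_one_iff _).2 (K.pow_index_mem x)
  have h3 : (2 ^ a).Coprime K.index := Nat.Coprime.pow_left _ (Nat.coprime_two_left.2 hK)
  have h4 : orderOf (QuotientGroup.mk x : X ⧸ K) ∣ 1 := by
    rw [← h3]; exact Nat.dvd_gcd (orderOf_dvd_of_pow_eq_one h1) (orderOf_dvd_of_pow_eq_one h2)
  exact (QuotientGroup.eq_one_iff _).1 (orderOf_eq_one_iff.1 (Nat.dvd_one.1 h4))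

/-- **The group theory of piece 13.** -/
theorem exists_compl {G S Γ : Type*} [Group G] [Finite G] [Group S] [Finite S] [Group Γ] [IsCyclic Γ]
    (K : Subgroup G) [K.Normal] (hK : Odd K.index) (σ : S →* Γ) (P : Subgroup (G × S))
    (h1 : ∀ g : G, ∃ s : S, (g, s) ∈ P) (h2 : ∀ g : G, (g, (1 : S)) ∈ P → g ∈ centralizer (K : Set G))
    (h3 : ∀ g s, (g, s) ∈ P → g ∈ K → σ s = 1)
    (N : Subgroup S) [N.Normal] (h4 : ∀ s, σ s = 1 → s ^ 4 ∈ N) (h5 : ∀ s ∈ N, ∃ k ∈ K, (k, s) ∈ P)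
    (h6 : ∀ τ : Γ, Odd (orderOf τ) → ∃ φ : S, σ φ = τ ∧ φ ^ orderOf τ = 1)
    (h7 : ∀ x ∈ centralizer (K : Set G), x * x = 1) (h8 : centralizer (K : Set G) ≤ K) :
    ∃ W : Subgroup G, IsCyclic ↥W ∧ Odd (Nat.card ↥W) ∧ W ⊓ K = ⊥ ∧ W ⊔ K = ⊤ ∧
      W ⊓ centralizer (K : Set G) = ⊥ := by
  -- the elements of `P` with trivial `σ` lie over `K`
  have hP0 : ∀ g s, (g, s) ∈ P → σ s = 1 → g ∈ K := by
    intro g s hgs hs
    obtain ⟨k, hk, hks⟩ := h5 _ (h4 s hs)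
    have e1 : (g ^ 4 * k⁻¹, (1 : S)) ∈ P := by
      have := P.mul_mem (P.pow_mem hgs 4) (P.inv_mem hks)
      simpa using this
    have e2 := h8 (h2 _ e1)
    have e3 : g ^ 2 ^ 2 ∈ K := by
      have := K.mul_mem e2 hk
      simpa using this
    exact mem_of_pow_two_pow K hK 2 e3
  -- `N ≤ ker σ`
  have hN : ∀ s ∈ N, σ s = 1 := by
    intro s hs
    obtain ⟨k, hk, hks⟩ := h5 s hs
    exact h3 k s hks hk
  -- a generator
  obtain ⟨p0, hp0, hgen⟩ : ∃ p ∈ P, ∀ q ∈ P, σ q.2 ∈ zpowers (σ p.2) := by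
    have : IsCyclic ↥(P.map (σ.comp (MonoidHom.snd G S))) := inferInstance
    obtain ⟨⟨_, ⟨p, hp, rfl⟩⟩, hg⟩ := this.exists_generator
    refine ⟨p, hp, fun q hq => ?_⟩
    obtain ⟨j, hj⟩ := hg ⟨_, mem_map_of_mem _ hq⟩
    refine ⟨j, ?_⟩
    have := congrArg Subtype.val hj
    simpa using this
  obtain ⟨a, ha⟩ := exists_odd_pow p0
  set p := p0 ^ 2 ^ a with hp
  have hpP : p ∈ P := P.pow_mem hp0 _
  -- `G = K ⟨p.1⟩`
  have hG0 : ∀ g : G, ∃ j : ℤ, g * (p0.1 ^ j)⁻¹ ∈ K := by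
    intro g
    obtain ⟨s, hs⟩ := h1 g
    obtain ⟨j, hj⟩ := hgen _ hs
    refine ⟨j, hP0 _ (s * (p0.2 ^ j)⁻¹) ?_ ?_⟩
    · exact P.mul_mem hs (P.inv_mem (P.zpow_mem hp0 j))
    · rw [map_mul, map_inv, map_zpow]
      rw [show σ s = σ p0.2 ^ j from hj.symm]
      simp
  -- conjugate into the coset
  have hodd1 : Odd (orderOf p.2) := by
    have : orderOf p.2 ∣ orderOf p := orderOf_dvd_of_pow_eq_one (by
      rw [← Prod.pow_snd, pow_orderOf_eq_one]; rfl)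
    exact ha.of_dvd_nat this
  have hodd2 : Odd (orderOf (σ p.2)) := hodd1.of_dvd_nat (orderOf_map_dvd _ _)
  obtain ⟨φ, hφ, hφ1⟩ := h6 _ hodd2
  have hoddφ : Odd (orderOf φ) := hodd2.of_dvd_nat (orderOf_dvd_of_pow_eq_one hφ1)
  let D : Subgroup (S ⧸ N) := σ.ker.map (QuotientGroup.mk' N)
  have hDn : D.Normal := Subgroup.Normal.map inferInstance _ (QuotientGroup.mk'_surjective N)
  have hD2 : IsPGroup 2 ↥D := by
    rintro ⟨_, ⟨s, hs, rfl⟩⟩
    refine ⟨2, Subtype.ext ?_⟩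
    show (QuotientGroup.mk' N s) ^ 2 ^ 2 = 1
    rw [← map_pow]
    exact (QuotientGroup.eq_one_iff _).2 (h4 s hs)
  obtain ⟨n, hn⟩ := (IsPGroup.iff_card (p := 2)).1 hD2
  have hcop : ∀ x : S ⧸ N, Odd (orderOf x) → (orderOf x).Coprime (Nat.card ↥D) := by
    intro x hx
    rw [hn]
    exact Nat.Coprime.pow_right _ (Nat.coprime_two_right.2 hx)
  have hoT : Odd (orderOf (QuotientGroup.mk' N p.2)) := hodd1.of_dvd_nat (orderOf_map_dvd _ _)
  have hoφ : Odd (orderOf (QuotientGroup.mk' N φ)) := hoddφ.of_dvd_nat (orderOf_map_dvd _ _)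
  obtain ⟨_, ⟨d, hd, rfl⟩, hdd⟩ := H466.RealLift.exists_conj_of_coset D (hcop _ hoφ) (hcop _ hoT) (by
    refine ⟨φ⁻¹ * p.2, ?_, by rw [map_mul, map_inv]⟩
    show σ _ = 1
    rw [map_mul, map_inv, hφ, inv_mul_cancel])
  -- `y = (d φ d⁻¹)⁻¹ p.2 ∈ N`
  have hy : (d * φ * d⁻¹)⁻¹ * p.2 ∈ N := by
    rw [← QuotientGroup.eq_one_iff]
    have : (QuotientGroup.mk' N) ((d * φ * d⁻¹)⁻¹ * p.2) = 1 := by
      rw [map_mul, map_inv, map_mul, map_mul, map_inv, hdd, inv_mul_cancel]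
    exact this
  obtain ⟨k, hk, hky⟩ := h5 _ hy
  set g1 : G := p.1 * k⁻¹ with hg1
  have hg1P : (g1, d * φ * d⁻¹) ∈ P := by
    have := P.mul_mem hpP (P.inv_mem hky)
    have e : p * (k, (d * φ * d⁻¹)⁻¹ * p.2)⁻¹ = (g1, d * φ * d⁻¹) := by
      refine Prod.ext rfl ?_
      show p.2 * ((d * φ * d⁻¹)⁻¹ * p.2)⁻¹ = _
      group
    rwa [e] at this
  -- powers of `g1` in `K` centralise `K`
  have hpow : ∀ j : ℤ, g1 ^ j ∈ K → g1 ^ j ∈ centralizer (K : Set G) := by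
    intro j hj
    have e1 := P.zpow_mem hg1P j
    have e2 : σ ((d * φ * d⁻¹) ^ j) = 1 := h3 _ _ e1 hj
    have e3 : σ φ ^ j = 1 := by
      have : σ ((d * φ * d⁻¹) ^ j) = σ d * σ φ ^ j * (σ d)⁻¹ := by
        rw [map_zpow, map_mul, map_mul, map_inv, conj_zpow]
      rw [this] at e2
      have h := congrArg (fun t => (σ d)⁻¹ * t * σ d) e2
      simpa [mul_assoc] using h
    have e4 : (d * φ * d⁻¹) ^ j = 1 := by
      rw [conj_zpow]
      have : φ ^ j = 1 := by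
        rw [← orderOf_dvd_iff_zpow_eq_one]
        refine dvd_trans (Int.natCast_dvd_natCast.2 (orderOf_dvd_of_pow_eq_one hφ1)) ?_
        rw [orderOf_dvd_iff_zpow_eq_one, ← hφ]
        exact e3
      rw [this]; group
    apply h2
    have : (g1, d * φ * d⁻¹) ^ j = (g1 ^ j, 1) := by
      refine Prod.ext rfl ?_
      exact e4
    rwa [this] at e1
  obtain ⟨b, hb⟩ := exists_odd_pow g1
  set w := g1 ^ 2 ^ b with hw
  have hWK : zpowers w ⊓ K = ⊥ := by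
    rw [eq_bot_iff]
    rintro x ⟨⟨j, rfl⟩, hxK⟩
    have e1 : w ^ j = g1 ^ ((2 ^ b : ℕ) * j : ℤ) := by rw [zpow_mul, zpow_natCast]
    have e2 : w ^ j ∈ centralizer (K : Set G) := by
      rw [e1]; exact hpow _ (by rw [← e1]; exact hxK)
    have e3 := h7 _ e2
    have e4 : orderOf (w ^ j) ∣ 2 := orderOf_dvd_of_pow_eq_one (by rw [pow_two]; exact e3)
    have e5 : Odd (orderOf (w ^ j)) := hb.of_dvd_nat (orderOf_dvd_of_mem_zpowers (zpow_mem (mem_zpowers w) _))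
    rcases (Nat.dvd_prime Nat.prime_two).1 e4 with h | h
    · exact orderOf_eq_one_iff.1 h
    · rw [h] at e5; exact absurd e5 (by decide)
  refine ⟨zpowers w, inferInstance, by rw [Nat.card_zpowers]; exact hb, hWK, ?_, ?_⟩
  · -- `⟨w⟩ K = G`
    rw [eq_top_iff]
    rintro g -
    obtain ⟨j, hj⟩ := hG0 g
    have hk1 : (QuotientGroup.mk' K) k = 1 := (QuotientGroup.eq_one_iff _).2 hk
    have e1 : (QuotientGroup.mk' K) w = (QuotientGroup.mk' K p0.1) ^ 2 ^ (a + b) := by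
      rw [hw, map_pow, hg1, map_mul, map_inv, hk1, inv_one, mul_one, hp, Prod.pow_fst, map_pow, ← pow_mul, pow_add]
    have e2 : (2 ^ (a + b)).Coprime (orderOf (QuotientGroup.mk' K p0.1)) := by
      refine Nat.Coprime.pow_left _ (Nat.coprime_two_left.2 (hK.of_dvd_nat ?_))
      rw [Subgroup.index_eq_card]
      exact orderOf_dvd_natCard _
    obtain ⟨m, hm⟩ := exists_pow_eq_self_of_coprime e2
    rw [← e1] at hm
    have e3 : (QuotientGroup.mk' K) g = (QuotientGroup.mk' K) (w ^ (m * j : ℤ)) := by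
      have h := (QuotientGroup.eq_one_iff (N := K) _).2 hj
      have h' : (QuotientGroup.mk' K) g * ((QuotientGroup.mk' K) p0.1 ^ j)⁻¹ = 1 := by
        rw [← map_zpow, ← map_inv, ← map_mul]; exact h
      rw [mul_inv_eq_one] at h'
      rw [h', map_zpow, zpow_mul, zpow_natCast, hm]
    have e4 : (w ^ (m * j : ℤ))⁻¹ * g ∈ K := by
      rw [← QuotientGroup.eq_one_iff]
      show (QuotientGroup.mk' K) _ = 1
      rw [map_mul, map_inv, e3, inv_mul_cancel]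
    have e5 : g = w ^ (m * j : ℤ) * ((w ^ (m * j : ℤ))⁻¹ * g) := by group
    rw [e5]
    exact mul_mem (mem_sup_left (zpow_mem (mem_zpowers w) _)) (mem_sup_right e4)
  · rw [eq_bot_iff]
    rintro x ⟨hx1, hx2⟩
    have : x ∈ zpowers w ⊓ K := ⟨hx1, h8 hx2⟩
    rw [hWK] at this
    exact this

end Cfsg.Agent.H87.OI.AbsComp
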