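import Mathlib
import Cfsg.Agent.AutOrth.Gen
import Cfsg.Agent.AutOrth.SemiSim
import Cfsg.Agent.AutOrth.Semilinear

/-!
# S3325, piece 13: the group of semisimilarities (helper87)
-/

set_option autoImplicit false

namespace Cfsg.Agent.H87.OI.Semi

open QuadraticMap Cfsg.Agent.LieClassical.OrthCore Cfsg.Agent.LieClassical.OrthTrans
  Cfsg.Agent.AutOrth.SemiSim Cfsg.Agent.AutOrth.Gen Cfsg.Agent.AutOrth.Semilinear
open scoped commutatorElement

variable {F V : Type*} [Field F] [AddCommGroup V] [Module F V] {Q : QuadraticForm F V}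

theorem hasPlane (hG : Good Q) : HasPlane Q := by
  obtain ⟨x, y, h⟩ := hG.exists_hyp
  obtain ⟨z, w, h', hxz, hxw, hyz, hyw⟩ := hG.exists_hyp2 h
  refine ⟨x, z, h.left, h'.left, hxz, h.left_ne, fun a ha => ?_⟩
  have h1 : polar Q y z = a := by rw [ha, polar_smul_right, h.pair', smul_eq_mul, mul_one]
  rw [hyz] at h1
  rw [← h1, zero_smul] at ha
  exact h'.left_ne ha

theorem adj_comb {u w : V} (h : Adj Q u w) {a b c : F} (e : a • u + b • w = c • (u + w)) : a = b := by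
  have e1 : (b - c) • w = (c - a) • u := by
    rw [sub_smul, sub_smul, sub_eq_iff_eq_add]
    have : b • w = c • (u + w) - a • u := by rw [← e]; abel
    rw [this, smul_add]; abel
  have hb : b - c = 0 := by
    by_contra hb
    apply h.2.2.2.2 ((b - c)⁻¹ * (c - a))
    rw [← smul_smul, ← e1, smul_smul, inv_mul_cancel₀ hb, one_smul]
  rw [hb, zero_smul] at e1
  have hc : c - a = 0 := by
    rcases smul_eq_zero.1 e1.symm with h1 | h1
    · exact h1
    · exact absurd h1 h.2.2.2.1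
  rw [sub_eq_zero.1 hb, sub_eq_zero.1 hc]

/-- a semisimilarity commuting with `E Q` is a scalar -/
theorem scalar_of_comm (hG : Good Q) {M : V ≃+ V} {σ : F ≃+* F} {c : F} (h : IsSemi Q M σ c)
    (hc : ∀ g : ↥(E Q), ∀ v, M ((g : V ≃ₗ[F] V) v) = (g : V ≃ₗ[F] V) (M v)) :
    (∀ b, σ b = b) ∧ ∃ a : F, a ≠ 0 ∧ ∀ v, M v = a • v := by
  have hT := hasPlane hG
  have hE : ∀ g : ↥(E Q), conjE h g = g := by
    intro g
    refine ext_E fun v => ?_
    obtain ⟨v, rfl⟩ := M.surjective v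
    rw [conjE_apply, hc]
  have hk : KerScalar (MonoidHom.id ↥(E Q)) := fun g hg => ⟨1, fun v => by
    have : g = 1 := hg
    rw [this, one_smul]; rfl⟩
  have hline : ∀ u, Q u = 0 → u ≠ 0 → ∃ a : F, a ≠ 0 ∧ M u = a • u := by
    intro u hu hu0
    have hu' : Q (M u) = 0 := by rw [h.form, hu, map_zero, mul_zero]
    have hMu0 : M u ≠ 0 := fun h0 => hu0 (M.injective (by rw [h0, map_zero]))
    refine point_unique hG hk hu hu' hu0 hMu0 ?_
    rw [Subgroup.map_id, Subgroup.map_id]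
    apply le_antisymm
    · rintro _ ⟨w, hw, rfl⟩
      have hw' : polar Q (M u) (c⁻¹ • M w) = 0 := by
        rw [polar_smul_right, h.polar, hw]; simp
      rw [← hE (sg Q u w hu hw), conjE_sg h hu hw hu' hw']
      exact sg_mem_RS _ _
    · rintro _ ⟨w', hw', rfl⟩
      have hw : polar Q u (M.symm (c • w')) = 0 := by
        have h1 := h.polar u (M.symm (c • w'))
        rw [AddEquiv.apply_symm_apply, polar_smul_right, hw', smul_zero] at h1
        rcases mul_eq_zero.1 h1.symm with h2 | h2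
        · exact absurd h2 h.ne
        · simpa using h2
      have hw'' : polar Q (M u) (c⁻¹ • M (M.symm (c • w'))) = 0 := by
        rw [AddEquiv.apply_symm_apply, smul_smul, inv_mul_cancel₀ h.ne, one_smul]; exact hw'
      have e1 : sg Q (M u) w' hu' hw' = sg Q u (M.symm (c • w')) hu hw := by
        rw [← hE (sg Q u (M.symm (c • w')) hu hw), conjE_sg h hu hw hu' hw'']
        exact sg_congr _ _ _ _ rfl (by
          rw [AddEquiv.apply_symm_apply, smul_smul, inv_mul_cancel₀ h.ne, one_smul])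
      rw [e1]
      exact sg_mem_RS _ _
  classical
  choose! l hl0 hl using hline
  have hconst := const_of_adj hT l (by
    intro u w hadj
    have hs : Q (u + w) = 0 := by simpa using hadj.add_sing 1 1
    have hs0 : u + w ≠ 0 := fun h0 => hadj.2.2.2.2 (-1) (by
      rw [neg_smul, one_smul]; exact (neg_eq_of_add_eq_zero_right h0).symm)
    have e1 := hl (u + w) hs hs0
    rw [map_add, hl u hadj.1 hadj.2.2.2.1, hl w hadj.2.1 hadj.ne] at e1
    exact adj_comb hadj e1)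
  obtain ⟨e₁, e₂, he⟩ := hT
  have hM : ∀ u, Q u = 0 → M u = l e₁ • u := by
    intro u hu
    by_cases hu0 : u = 0
    · rw [hu0, map_zero, smul_zero]
    · rw [hl u hu hu0, hconst u e₁ hu he.1 hu0 he.2.2.2.1]
  have ha0 : l e₁ ≠ 0 := hl0 e₁ he.1 he.2.2.2.1
  have hσ : ∀ b, σ b = b := by
    intro b
    have e1 := h.smul b e₁
    rw [hM e₁ he.1, hM (b • e₁) (by rw [QuadraticMap.map_smul, he.1, smul_zero]), smul_smul, smul_smul] at e1
    have e2 : (l e₁ * b - σ b * l e₁) • e₁ = 0 := by rw [sub_smul, e1, sub_self]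
    rcases smul_eq_zero.1 e2 with h2 | h2
    · have h3 : l e₁ * (b - σ b) = 0 := by rw [← h2]; ring
      rcases mul_eq_zero.1 h3 with h4 | h4
      · exact absurd h4 ha0
      · exact (sub_eq_zero.1 h4).symm
    · exact absurd h2 he.2.2.2.1
  refine ⟨hσ, l e₁, ha0, fun v => ?_⟩
  have hv : v ∈ Submodule.span F {s : V | Q s = 0} := by
    rw [span_sing hG.nondeg ⟨e₁, e₂, he⟩]; trivial
  induction hv using Submodule.span_induction with
  | mem x hx => exact hM x hx
  | zero => simp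
  | add x y _ _ hx hy => rw [map_add, hx, hy, smul_add]
  | smul a x _ hx => rw [h.smul, hx, hσ, smul_comm]

/-- squares of isometries lie in `E Q` -/
theorem mul_self_mem (hG : Good Q) {g : V ≃ₗ[F] V} (hg : g ∈ O Q) : g * g ∈ E Q := by
  have hfin : FiniteDimensional F V := Module.finite_of_finrank_pos (by have := hG.dim; omega)
  have hO := O_eq_closure hG.nondeg
  rw [hO] at hg
  induction hg using Subgroup.closure_induction with
  | mem x hx =>
    rcases hx with ⟨v, hv, rfl⟩ | hx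
    · rw [refl_mul_self]; exact Subgroup.one_mem _
    · exact mul_mem (Subgroup.subset_closure hx) (Subgroup.subset_closure hx)
  | one => rw [one_mul]; exact Subgroup.one_mem _
  | mul x y hx hy ihx ihy =>
    rw [← hO] at hx hy
    have e : x * y * (x * y) = (x * x) * ⁅x⁻¹, y⁆ * (y * y) := by
      rw [commutatorElement_def]; group
    rw [e]
    refine mul_mem (mul_mem ihx ?_) ihy
    rw [← hG.commutator_eq_E]
    exact Subgroup.commutator_mem_commutator (inv_mem hx) hy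
  | inv x hx ihx =>
    have e : x⁻¹ * x⁻¹ = (x * x)⁻¹ := by group
    rw [e]; exact inv_mem ihx

/-! ### The group of semisimilarities -/

theorem IsSemi.mul {M M' : V ≃+ V} {σ σ' : F ≃+* F} {c c' : F} (h : IsSemi Q M σ c) (h' : IsSemi Q M' σ' c') :
    IsSemi Q (M'.trans M) (σ'.trans σ) (c * σ c') where
  ne := mul_ne_zero h.ne (by simpa using h'.ne)
  smul a v := by
    show M (M' (a • v)) = σ (σ' a) • M (M' v)
    rw [h'.smul, h.smul]
  form v := by
    show Q (M (M' v)) = c * σ c' * σ (σ' (Q v))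
    rw [h.form, h'.form, map_mul, mul_assoc]

/-- the group of semisimilarities, with their field automorphisms -/
def SG (Q : QuadraticForm F V) : Subgroup (Equiv.Perm V × RingAut F) where
  carrier := {p | ∃ (M : V ≃+ V) (c : F), (∀ v, p.1 v = M v) ∧ IsSemi Q M p.2 c}
  mul_mem' := by
    rintro p q ⟨M, c, hM, hc⟩ ⟨M', d, hM', hd⟩
    exact ⟨_, _, fun v => by
      show p.1 (q.1 v) = M (M' v)
      rw [hM', hM], IsSemi.mul hc hd⟩
  one_mem' := ⟨AddEquiv.refl V, 1, fun v => rfl, one_ne_zero, fun a v => rfl, fun v => by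
    show Q v = 1 * Q v
    rw [one_mul]⟩
  inv_mem' := by
    rintro p ⟨M, c, hM, hc⟩
    refine ⟨M.symm, _, fun v => ?_, hc.symm⟩
    rw [AddEquiv.eq_symm_apply, ← hM]
    exact Equiv.apply_symm_apply p.1 v

theorem SG.inv_apply (p : ↥(SG Q)) (v : V) : p.1.1 ((p⁻¹).1.1 v) = v := Equiv.apply_symm_apply p.1.1 v

theorem SG.smul (p : ↥(SG Q)) (a : F) (v : V) : p.1.1 (a • v) = p.1.2 a • p.1.1 v := by
  obtain ⟨M, c, hM, hc⟩ := p.2
  rw [hM, hM]
  exact hc.smul a v

/-- the action on `E Q` -/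
noncomputable def cE (Q : QuadraticForm F V) : ↥(SG Q) →* MulAut ↥(E Q) where
  toFun p := conjE p.2.choose_spec.choose_spec.2
  map_one' := by
    ext1 g
    refine ext_E fun v => ?_
    have h := (1 : ↥(SG Q)).2.choose_spec.choose_spec
    have h1 := conjE_apply h.2 g v
    rw [← h.1, ← h.1] at h1
    exact h1
  map_mul' p q := by
    ext1 g
    refine ext_E fun v => ?_
    obtain ⟨v, rfl⟩ := (p * q).1.1.surjective v
    have hpq := (p * q).2.choose_spec.choose_spec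
    have hp := p.2.choose_spec.choose_spec
    have hq := q.2.choose_spec.choose_spec
    have e1 := conjE_apply hpq.2 g v
    rw [← hpq.1, ← hpq.1] at e1
    have e2 := conjE_apply hq.2 g v
    rw [← hq.1, ← hq.1] at e2
    have e3 := conjE_apply hp.2 (conjE hq.2 g) (q.1.1 v)
    rw [← hp.1, ← hp.1, e2] at e3
    rw [e1]
    exact e3.symm

theorem cE_apply (p : ↥(SG Q)) (g : ↥(E Q)) (v : V) :
    (cE Q p g : V ≃ₗ[F] V) (p.1.1 v) = p.1.1 ((g : V ≃ₗ[F] V) v) := by
  have hp := p.2.choose_spec.choose_spec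
  have e3 := conjE_apply hp.2 g v
  rw [← hp.1, ← hp.1] at e3
  exact e3

theorem cE_apply' (p : ↥(SG Q)) (g : ↥(E Q)) (v : V) :
    (cE Q p g : V ≃ₗ[F] V) v = p.1.1 ((g : V ≃ₗ[F] V) ((p⁻¹).1.1 v)) := by
  have := cE_apply p g ((p⁻¹).1.1 v)
  rwa [SG.inv_apply] at this

theorem scalar_of_cE (hG : Good Q) {p : ↥(SG Q)} (hc : ∀ g, cE Q p g = g) :
    p.1.2 = 1 ∧ ∃ a : F, a ≠ 0 ∧ ∀ v, p.1.1 v = a • v := by
  obtain ⟨M, c, hM, h⟩ := p.2
  obtain ⟨h1, a, ha, h2⟩ := scalar_of_comm hG h (fun g v => by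
    rw [← hM, ← hM, ← cE_apply, hc])
  exact ⟨RingEquiv.ext h1, a, ha, fun v => by rw [hM, h2]⟩

/-- `F^× E Q` -/
def NN (Q : QuadraticForm F V) : Subgroup ↥(SG Q) where
  carrier := {p | (∃ (g : ↥(E Q)) (a : F), a ≠ 0 ∧ ∀ v, p.1.1 v = a • (g : V ≃ₗ[F] V) v) ∧ ∀ b, p.1.2 b = b}
  mul_mem' := by
    rintro p q ⟨⟨g, a, ha, hg⟩, hp⟩ ⟨⟨h, b, hb, hh⟩, hq⟩
    refine ⟨⟨g * h, a * b, mul_ne_zero ha hb, fun v => ?_⟩, fun t => ?_⟩
    · show p.1.1 (q.1.1 v) = (a * b) • (g : V ≃ₗ[F] V) ((h : V ≃ₗ[F] V) v)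
      rw [hh, hg, map_smul, smul_smul]
    · show p.1.2 (q.1.2 t) = t
      rw [hq, hp]
  one_mem' := ⟨⟨1, 1, one_ne_zero, fun v => by rw [one_smul]; rfl⟩, fun b => rfl⟩
  inv_mem' := by
    rintro p ⟨⟨g, a, ha, hg⟩, hp⟩
    refine ⟨⟨g⁻¹, a⁻¹, inv_ne_zero ha, fun v => ?_⟩, fun t => ?_⟩
    · have e1 := SG.inv_apply p v
      rw [hg] at e1
      have e2 : (g : V ≃ₗ[F] V) ((p⁻¹).1.1 v) = a⁻¹ • v := by
        rw [← e1, smul_smul, inv_mul_cancel₀ ha, one_smul, e1]
      have e3 : (g : V ≃ₗ[F] V).symm ((g : V ≃ₗ[F] V) ((p⁻¹).1.1 v)) = a⁻¹ • (g : V ≃ₗ[F] V).symm v := by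
        rw [e2, map_smul]
      rw [LinearEquiv.symm_apply_apply] at e3
      exact e3
    · have e1 : p.1.2 ((p⁻¹).1.2 t) = t := RingEquiv.apply_symm_apply _ _
      rw [hp] at e1
      exact e1

instance normal_NN : (NN Q).Normal where
  conj_mem := by
    rintro n ⟨⟨g, a, ha, hg⟩, hn⟩ p
    refine ⟨⟨cE Q p g, p.1.2 a, by simpa using ha, fun v => ?_⟩, fun t => ?_⟩
    · rw [cE_apply', ← SG.smul, ← hg]
      rfl
    · show p.1.2 (n.1.2 ((p⁻¹).1.2 t)) = t
      rw [hn]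
      exact RingEquiv.apply_symm_apply _ _

theorem pow_four_mem (hG : Good Q) (p : ↥(SG Q)) (hp : p.1.2 = 1) : p ^ 4 ∈ NN Q := by
  have hp' : ∀ b, p.1.2 b = b := fun b => by rw [hp]; rfl
  obtain ⟨M, c, hM, hc⟩ := p.2
  have hsm : ∀ (a : F) (v : V), M (a • v) = a • M v := fun a v => by rw [hc.smul, hp']
  have hform : ∀ v, Q (M v) = c * Q v := fun v => by rw [hc.form, hp']
  let L : V ≃ₗ[F] V := { (M : V ≃+ V) with map_smul' := fun a v => hsm a v }
  have hL : ∀ v, L v = M v := fun v => rfl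
  let s : V ≃ₗ[F] V := LinearEquiv.smulOfNeZero F V c⁻¹ (inv_ne_zero hc.ne)
  have hs : ∀ v, s v = c⁻¹ • v := fun v => rfl
  have hO : s * (L * L) ∈ O Q := by
    intro v
    show Q (s (L (L v))) = Q v
    rw [hs, QuadraticMap.map_smul, hL, hL, hform, hform]
    have := hc.ne
    simp only [smul_eq_mul]
    field_simp
  have hE := mul_self_mem hG hO
  refine ⟨⟨⟨_, hE⟩, c * c, mul_ne_zero hc.ne hc.ne, fun v => ?_⟩, fun t => ?_⟩
  · show p.1.1 (p.1.1 (p.1.1 (p.1.1 v))) = (c * c) • s (L (L (s (L (L v)))))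
    rw [hM, hM, hM, hM, hs, hs, map_smul, map_smul, smul_smul, smul_smul, hL, hL, hL, hL]
    have := hc.ne
    rw [show c * c * c⁻¹ * c⁻¹ = 1 by field_simp, one_smul]
  · show p.1.2 (p.1.2 (p.1.2 (p.1.2 t))) = t
    rw [hp', hp', hp', hp']

end Cfsg.Agent.H87.OI.Semi
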