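import Mathlib
import Cfsg.Agent.H160.QDisc
import Cfsg.Agent.H87.OI.Semi

/-!
# S3325, piece 13: field automorphisms of odd order of a quadratic space (helper87)
-/

set_option autoImplicit false

namespace Cfsg.Agent.H87.OI.FieldAut

open QuadraticMap Module Cfsg.Agent.LieClassical.OrthCore Cfsg.Agent.AutOrth.SemiSim
  Cfsg.Agent.H160.QDisc Cfsg.Agent.H87.OI.Semi

variable {F : Type*} [Field F]

/-- the class of squares is invariant under field automorphisms -/
theorem qc_map [Fintype F] [DecidableEq F] (τ : F ≃+* F) (a : F) : quadraticChar F (τ a) = quadraticChar F a := by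
  by_cases ha : a = 0
  · rw [ha, map_zero]
  · have hiff : IsSquare (τ a) ↔ IsSquare a := by
      constructor
      · rintro ⟨r, hr⟩
        refine ⟨τ.symm r, ?_⟩
        rw [← map_mul, ← hr, RingEquiv.symm_apply_apply]
      · rintro ⟨r, hr⟩
        exact ⟨τ r, by rw [← map_mul, ← hr]⟩
    have hτ : τ a ≠ 0 := by simpa using ha
    rcases quadraticChar_dichotomy ha with h | h
    · rw [h, quadraticChar_one_iff_isSquare hτ, hiff, ← quadraticChar_one_iff_isSquare ha]; exact h
    · rw [h]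
      rcases quadraticChar_dichotomy hτ with h' | h'
      · rw [quadraticChar_one_iff_isSquare hτ, hiff, ← quadraticChar_one_iff_isSquare ha, h] at h'
        norm_num at h'
      · exact h'

/-- a fixed representative of the class -/
theorem exists_fixed [Fintype F] [DecidableEq F] (τ : RingAut F) (hτ : Odd (orderOf τ)) {δ : F} (hδ : δ ≠ 0) :
    ∃ δ₀ s : F, δ₀ ≠ 0 ∧ τ δ₀ = δ₀ ∧ δ = s ^ 2 * δ₀ := by
  set m := orderOf τ with hm
  set δ₀ := ∏ i ∈ Finset.range m, (τ ^ i) δ with hδ₀
  have h1 : δ₀ ≠ 0 := by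
    rw [hδ₀, Finset.prod_ne_zero_iff]
    intro i _
    exact fun h0 => hδ ((map_eq_zero_iff (τ ^ i) (RingEquiv.injective (τ ^ i))).1 h0)
  have h2 : τ δ₀ = δ₀ := by
    rw [hδ₀, map_prod]
    have e1 : ∀ i ∈ Finset.range m, τ ((τ ^ i) δ) = (τ ^ (i + 1)) δ := fun i _ => by rw [pow_succ']; rfl
    rw [Finset.prod_congr rfl e1]
    have hm0 : 0 < m := hτ.pos
    obtain ⟨k, hk⟩ : ∃ k, m = k + 1 := ⟨m - 1, by omega⟩
    have e2 : τ ^ (k + 1) = 1 := by rw [← hk, hm, pow_orderOf_eq_one]
    rw [hk, Finset.prod_range_succ, Finset.prod_range_succ', e2, pow_zero]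
  have h3 : quadraticChar F δ₀ = quadraticChar F δ := by
    rw [hδ₀, map_prod, Finset.prod_congr rfl (fun i _ => qc_map (τ ^ i) δ), Finset.prod_const, Finset.card_range]
    rcases quadraticChar_dichotomy hδ with h | h
    · rw [h, one_pow]
    · rw [h, hτ.neg_one_pow]
  have h4 : IsSquare (δ / δ₀) := by
    rw [← quadraticChar_one_iff_isSquare (div_ne_zero hδ h1)]
    have e1 : quadraticChar F (δ / δ₀) * quadraticChar F δ₀ = quadraticChar F δ := by
      rw [← map_mul, div_mul_cancel₀ _ h1]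
    rw [h3] at e1
    rcases quadraticChar_dichotomy hδ with h | h <;> rw [h] at e1 <;> linarith
  obtain ⟨s, hs⟩ := h4
  exact ⟨δ₀, s, h1, h2, by rw [pow_two, ← hs, div_mul_cancel₀ _ h1]⟩

variable {V : Type*} [AddCommGroup V] [Module F V] [FiniteDimensional F V]

/-- the coordinatewise action -/
noncomputable def cw {n : ℕ} (b : Basis (Fin n) F V) (τ : F ≃+* F) : V ≃+ V :=
  (b.equivFun.toAddEquiv.trans (AddEquiv.piCongrRight fun _ => τ.toAddEquiv)).trans b.equivFun.symm.toAddEquiv

omit [FiniteDimensional F V] in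
theorem cw_coord {n : ℕ} (b : Basis (Fin n) F V) (τ : F ≃+* F) (v : V) :
    b.equivFun (cw b τ v) = fun i => τ (b.equivFun v i) := by
  show b.equivFun (b.equivFun.symm _) = _
  rw [LinearEquiv.apply_symm_apply]
  rfl

omit [FiniteDimensional F V] in
theorem cw_smul {n : ℕ} (b : Basis (Fin n) F V) (τ : F ≃+* F) (a : F) (v : V) :
    cw b τ (a • v) = τ a • cw b τ v := by
  apply b.equivFun.injective
  rw [cw_coord, map_smul, map_smul, cw_coord]
  funext i
  simp

omit [FiniteDimensional F V] in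
theorem form_eq {n : ℕ} (b : Basis (Fin n) F V) (c : Fin n → F) {Q : QuadraticForm F V}
    (hb : ∀ i j, polar Q (b i) (b j) = if i = j then c i else 0) (v : V) :
    2 * Q v = ∑ i, c i * (b.equivFun v i) ^ 2 := by
  rw [two_mul_Q]
  conv_lhs => rw [← b.sum_equivFun v]
  rw [LinearMap.BilinForm.sum_left]
  refine Finset.sum_congr rfl fun i _ => ?_
  rw [LinearMap.BilinForm.sum_right, Finset.sum_eq_single i]
  · rw [LinearMap.BilinForm.smul_left, LinearMap.BilinForm.smul_right, polarBilin_apply_apply, hb, if_pos rfl]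
    ring
  · intro j _ hj
    rw [LinearMap.BilinForm.smul_left, LinearMap.BilinForm.smul_right, polarBilin_apply_apply, hb, if_neg hj.symm]
    simp
  · intro h; exact absurd (Finset.mem_univ i) h

/-- **Field automorphisms of odd order.** -/
theorem exists_field [Fintype F] (h2 : (2 : F) ≠ 0) {Q : QuadraticForm F V} (hQ : Nondeg Q) (hd : 0 < finrank F V)
    (τ : RingAut F) (hτ : Odd (orderOf τ)) : ∃ p : ↥(SG Q), p.1.2 = τ ∧ p ^ orderOf τ = 1 := by
  classical
  obtain ⟨δ₀, s, h1, h3, h4⟩ := exists_fixed τ hτ (gdet_ne hQ)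
  obtain ⟨n, hn⟩ : ∃ n, finrank F V = n + 1 := ⟨finrank F V - 1, by omega⟩
  let c : Fin (finrank F V) → F := fun i => if i.val = 0 then δ₀ else 1
  have hc0 : ∀ i, c i ≠ 0 := by
    intro i
    show (if i.val = 0 then δ₀ else 1) ≠ 0
    split_ifs
    · exact h1
    · exact one_ne_zero
  have hcτ : ∀ i, τ (c i) = c i := by
    intro i
    show τ (if i.val = 0 then δ₀ else 1) = (if i.val = 0 then δ₀ else 1)
    split_ifs
    · exact h3
    · exact map_one τ
  have hcp : ∏ i, c i = δ₀ := by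
    rw [Finset.prod_eq_single (⟨0, hd⟩ : Fin (finrank F V))]
    · show (if (0 : ℕ) = 0 then δ₀ else 1) = δ₀
      rw [if_pos rfl]
    · intro i _ hi
      show (if i.val = 0 then δ₀ else 1) = 1
      rw [if_neg fun h => hi (Fin.ext h)]
    · intro h; exact absurd (Finset.mem_univ _) h
  obtain ⟨b, hb⟩ := ClassicalGeometry.Discriminant.exists_basis_diag h2 (polarBilin Q) (isSymm_bilin Q)
    (nondeg_bilin hQ) (finBasis F V) c (by simp) hc0 s (by rw [hcp, ← h4]; rfl)
  have hform : ∀ v, Q (cw b τ v) = 1 * τ (Q v) := by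
    intro v
    apply mul_left_cancel₀ h2
    rw [form_eq b c (fun i j => hb i j), cw_coord, one_mul]
    have e1 : (2 : F) * τ (Q v) = τ (2 * Q v) := by rw [map_mul, map_ofNat]
    rw [e1, form_eq b c (fun i j => hb i j), map_sum]
    refine Finset.sum_congr rfl fun i _ => ?_
    rw [map_mul, map_pow, hcτ]
  let p : ↥(SG Q) := ⟨((cw b τ).toEquiv, τ), cw b τ, 1, fun v => rfl, one_ne_zero, cw_smul b τ, hform⟩
  have hpow : ∀ k : ℕ, ∀ v, b.equivFun ((p ^ k).1.1 v) = fun i => (τ ^ k) (b.equivFun v i) := by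
    intro k
    induction k with
    | zero => intro v; rfl
    | succ k ih =>
      intro v
      have e1 : (p ^ (k + 1)).1.1 v = cw b τ ((p ^ k).1.1 v) := by
        rw [pow_succ']; rfl
      rw [e1, cw_coord, ih]
      funext i
      rw [pow_succ']; rfl
  have hp2 : ∀ k : ℕ, (p ^ k).1.2 = τ ^ k := by
    intro k
    induction k with
    | zero => rfl
    | succ k ih =>
      rw [pow_succ, pow_succ]
      show (p ^ k).1.2 * τ = _
      rw [ih]
  refine ⟨p, rfl, Subtype.ext (Prod.ext (Equiv.ext fun v => ?_) ?_)⟩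
  · apply b.equivFun.injective
    rw [hpow, pow_orderOf_eq_one]
    rfl
  · rw [hp2, pow_orderOf_eq_one]
    rfl

end Cfsg.Agent.H87.OI.FieldAut
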