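import Mathlib
import Cfsg.Agent.H323.OI.Pieces
import Cfsg.Agent.LieRecognition.FieldSemilinear
import Cfsg.Agent.H87.OI.AbsComp
import Cfsg.Agent.H87.OI.Semi
import Cfsg.Agent.H87.OI.FieldAut

/-!
# S3325, piece 13: the complement (helper87)
-/

set_option autoImplicit false

namespace Cfsg.Agent.H87.OI

open QuadraticMap Subgroup Matrix Cfsg.Agent.LieClassical.OrthCore Cfsg.Agent.LieClassical.OrthTrans
  Cfsg.Agent.LieClassical.OrthFinite Cfsg.Agent.AutOrth.SemiSim Cfsg.Agent.AutOrth.Gen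
  Cfsg.Agent.H87.OI.Semi Cfsg.Agent.H323.OI
open scoped commutatorElement

/-- a central automorphism of a perfect group is trivial -/
theorem eq_one_of_central {P : Type*} [Group P] (hP : ∀ f : P →* ↥(center P), ∀ y, f y = 1) (θ : MulAut P)
    (h : ∀ y, θ y * y⁻¹ ∈ center P) (y : P) : θ y = y := by
  have hc : ∀ x y, x * (θ y * y⁻¹) = θ y * y⁻¹ * x := fun x y => mem_center_iff.1 (h y) x
  let f : P →* ↥(center P) :=
    { toFun := fun y => ⟨θ y * y⁻¹, h y⟩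
      map_one' := Subtype.ext (by simp)
      map_mul' := fun x y => Subtype.ext (by
        show θ (x * y) * (x * y)⁻¹ = θ x * x⁻¹ * (θ y * y⁻¹)
        rw [map_mul, _root_.mul_inv_rev]
        have e1 : θ x * θ y * (y⁻¹ * x⁻¹) = θ x * ((θ y * y⁻¹) * x⁻¹) := by group
        rw [e1, ← hc x⁻¹ y]
        group) }
  have h1 := congrArg Subtype.val (hP f y)
  have h2 : θ y * y⁻¹ = 1 := h1
  rwa [mul_inv_eq_one] at h2

section main

variable {ι : Type} [Fintype ι] [DecidableEq ι] {F : Type} [Field F] {Q : QuadraticForm F (ι → F)}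

/-- `Omega F Q` as the group generated by the Siegel transformations. -/
noncomputable def oe (hG : Good Q) : Cfsg.Omega F ⇑Q ≃* ↥(E Q) :=
  (omegaEquiv Q).trans (MulEquiv.subgroupCongr hG.commutator_eq_E)

theorem oe_apply (hG : Good Q) (g : Cfsg.Omega F ⇑Q) (v : ι → F) :
    (oe hG g : (ι → F) ≃ₗ[F] (ι → F)) v = mx g.1 *ᵥ v := rfl

omit [Fintype ι] [DecidableEq ι] in
theorem perfect_E (hG : Good Q) (f : ↥(E Q) →* ↥(center ↥(E Q))) (y : ↥(E Q)) : f y = 1 := by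
  have h1 : commutator ↥(E Q) = ⊤ := by
    have h2 := hG.E_perfect
    apply Subgroup.map_injective (Subgroup.subtype_injective (E Q))
    rw [commutator_def, Subgroup.map_commutator, ← MonoidHom.range_eq_map, Subgroup.range_subtype]
    exact h2
  have h3 : y ∈ commutator ↥(E Q) := by rw [h1]; trivial
  have h4 : commutator ↥(E Q) ≤ f.ker := by
    rw [commutator_def, Subgroup.commutator_le]
    intro a _ b _
    show f ⁅a, b⁆ = 1
    have e : f a * f b = f b * f a := Subtype.ext (mem_center_iff.1 (f b).2 (f a).1)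
    rw [map_commutatorElement, commutatorElement_eq_one_iff_mul_comm, e]
  exact h4 h3

/-- elements of `E Q` as semisimilarities -/
noncomputable def inc (Q : QuadraticForm F (ι → F)) (x : ↥(E Q)) : ↥(SG Q) :=
  ⟨((x : (ι → F) ≃ₗ[F] (ι → F)).toEquiv, 1), (x : (ι → F) ≃ₗ[F] (ι → F)).toAddEquiv, 1, fun v => rfl,
    one_ne_zero, fun a v => (x : (ι → F) ≃ₗ[F] (ι → F)).map_smul a v, fun v => by
      show Q ((x : (ι → F) ≃ₗ[F] (ι → F)) v) = 1 * Q v
      rw [one_mul]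
      exact E_le_O x.2 v⟩

omit [Fintype ι] [DecidableEq ι] in
theorem cE_inc (x y : ↥(E Q)) : cE Q (inc Q x) y = x * y * x⁻¹ := by
  refine ext_E fun v => ?_
  obtain ⟨v, rfl⟩ := (inc Q x).1.1.surjective v
  rw [cE_apply]
  show (x : (ι → F) ≃ₗ[F] (ι → F)) ((y : (ι → F) ≃ₗ[F] (ι → F)) v) =
    (x : (ι → F) ≃ₗ[F] (ι → F)) ((y : (ι → F) ≃ₗ[F] (ι → F))
      ((x : (ι → F) ≃ₗ[F] (ι → F)).symm ((x : (ι → F) ≃ₗ[F] (ι → F)) v)))
  rw [LinearEquiv.symm_apply_apply]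

variable {G : Type} [Group G]

/-- the compatible pairs -/
def PP (Q : QuadraticForm F (ι → F)) (ρ : ↥(E Q) →* G) : Subgroup (G × ↥(SG Q)) where
  carrier := {x | ∀ y : ↥(E Q), x.1 * ρ y * x.1⁻¹ = ρ (cE Q x.2 y)}
  mul_mem' := by
    intro a b ha hb y
    show a.1 * b.1 * ρ y * (a.1 * b.1)⁻¹ = ρ (cE Q (a.2 * b.2) y)
    rw [map_mul, MulAut.mul_apply, ← ha, ← hb]
    group
  one_mem' := by
    intro y
    show 1 * ρ y * 1⁻¹ = ρ (cE Q 1 y)
    rw [map_one, MulAut.one_apply]; group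
  inv_mem' := by
    intro a ha y
    show a.1⁻¹ * ρ y * a.1⁻¹⁻¹ = ρ (cE Q a.2⁻¹ y)
    have h := ha (cE Q a.2⁻¹ y)
    rw [← MulAut.mul_apply, ← map_mul, mul_inv_cancel, map_one, MulAut.one_apply] at h
    rw [← h]
    group

theorem comp_E [Fintype F] (h2 : (2 : F) ≠ 0) (hG : Good Q) [Finite G] (ρ : ↥(E Q) →* G)
    (hk : ρ.ker ≤ center ↥(E Q)) (hn : ρ.range.Normal) (hc : centralizer (ρ.range : Set G) ≤ ρ.range)
    (hi : Odd ρ.range.index) (h1 : ∀ g : G, ∃ s, (g, s) ∈ PP Q ρ) :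
    ∃ W : Subgroup G, IsCyclic ↥W ∧ Odd (Nat.card ↥W) ∧ W ⊓ ρ.range = ⊥ ∧ W ⊔ ρ.range = ⊤ ∧
      W ⊓ centralizer (ρ.range : Set G) = ⊥ := by
  have hfinS : Finite ↥(SG Q) := by
    have : Finite (RingAut F) := Finite.of_injective (fun σ : RingAut F => (σ : F → F)) DFunLike.coe_injective
    infer_instance
  have hcyc : IsCyclic (RingAut F) := Cfsg.Agent.LieRecognition.FieldSemilinear.isCyclic_ringAut F
  -- a pair with trivial effect modulo `ker ρ`
  have hcen : ∀ (θ : MulAut ↥(E Q)), (∀ y, ρ (θ y) = ρ y) → ∀ y, θ y = y := by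
    intro θ h
    refine eq_one_of_central (perfect_E hG) θ fun y => hk ?_
    show ρ (θ y * y⁻¹) = 1
    rw [map_mul, map_inv, h, mul_inv_cancel]
  let σ : ↥(SG Q) →* RingAut F := (MonoidHom.snd _ _).comp (SG Q).subtype
  have hσ : ∀ s, σ s = s.1.2 := fun s => rfl
  refine AbsComp.exists_compl ρ.range hi σ (PP Q ρ) h1 ?_ ?_ (NN Q) ?_ ?_ ?_ ?_ hc
  · -- `h2`
    intro g hg
    rw [mem_centralizer_iff]
    rintro _ ⟨y, rfl⟩
    have h := hg y
    have h' : g * ρ y * g⁻¹ = ρ y := by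
      rw [map_one, MulAut.one_apply] at h; exact h
    rw [mul_inv_eq_iff_eq_mul] at h'
    exact h'.symm
  · -- `h3`
    rintro _ s hs ⟨x, rfl⟩
    have e1 : ∀ y, cE Q ((inc Q x)⁻¹ * s) y = y := by
      refine hcen _ fun y => ?_
      rw [map_mul, MulAut.mul_apply]
      have e2 := hs y
      have e3 : ρ (cE Q s y) = ρ (cE Q (inc Q x) y) := by
        rw [cE_inc, map_mul, map_mul, map_inv]; exact e2.symm
      have e4 : ∀ z w, ρ z = ρ w → ρ (cE Q (inc Q x)⁻¹ z) = ρ (cE Q (inc Q x)⁻¹ w) := by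
        intro z w hzw
        have e5 : ∀ z, cE Q (inc Q x)⁻¹ z = x⁻¹ * z * x := by
          intro z
          rw [map_inv, MulAut.inv_apply, MulEquiv.symm_apply_eq, cE_inc]
          group
        rw [e5, e5, map_mul, map_mul, map_mul, map_mul, hzw]
      rw [e4 _ _ e3, ← MulAut.mul_apply, ← map_mul, inv_mul_cancel, map_one, MulAut.one_apply]
    have e2 := (scalar_of_cE hG e1).1
    have e3 : ((inc Q x)⁻¹ * s).1.2 = s.1.2 := by
      show ((1 : RingAut F))⁻¹ * s.1.2 = s.1.2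
      rw [inv_one, one_mul]
    rw [hσ, ← e3, e2]
  · intro s hs
    exact pow_four_mem hG s hs
  · rintro s ⟨⟨g, a, ha, hg⟩, hs⟩
    refine ⟨ρ g, ⟨g, rfl⟩, fun y => ?_⟩
    show ρ g * ρ y * (ρ g)⁻¹ = ρ (cE Q s y)
    rw [← map_inv, ← map_mul, ← map_mul]
    congr 1
    refine ext_E fun v => ?_
    obtain ⟨v, rfl⟩ := s.1.1.surjective v
    rw [cE_apply, hg, hg]
    show (g : (ι → F) ≃ₗ[F] (ι → F)) ((y : (ι → F) ≃ₗ[F] (ι → F))
      ((g : (ι → F) ≃ₗ[F] (ι → F)).symm (a • (g : (ι → F) ≃ₗ[F] (ι → F)) v))) = _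
    rw [map_smul, LinearEquiv.symm_apply_apply, map_smul, map_smul]
  · intro τ hτ
    obtain ⟨p, hp, hp'⟩ := FieldAut.exists_field h2 hG.nondeg (by have := hG.dim; omega) τ hτ
    exact ⟨p, hp, hp'⟩
  · intro x hx
    obtain ⟨e, rfl⟩ := hc hx
    have e1 : ∀ y, cE Q (inc Q e) y = y := by
      refine hcen _ fun y => ?_
      rw [cE_inc, map_mul, map_mul, map_inv, mul_inv_eq_iff_eq_mul]
      exact (mem_centralizer_iff.1 hx _ ⟨y, rfl⟩).symm
    obtain ⟨-, a, ha, h⟩ := scalar_of_cE hG e1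
    have h' : ∀ v, (e : (ι → F) ≃ₗ[F] (ι → F)) v = a • v := h
    have h3 : a * a = 1 := by
      obtain ⟨x, y, hxy⟩ := hG.exists_hyp
      have h4 : Q (x + y) = 1 := by rw [Q_add, hxy.left, hxy.right, hxy.pair]; ring
      have h5 : Q ((e : (ι → F) ≃ₗ[F] (ι → F)) (x + y)) = Q (x + y) := E_le_O e.2 _
      rw [h', QuadraticMap.map_smul, h4, smul_eq_mul, mul_one] at h5
      exact h5
    have h6 : e * e = 1 := by
      refine ext_E fun v => ?_
      show (e : (ι → F) ≃ₗ[F] (ι → F)) ((e : (ι → F) ≃ₗ[F] (ι → F)) v) = v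
      rw [h', h', smul_smul, h3, one_smul]
    rw [← map_mul, h6, map_one]

/-- piece 13 for quadratic forms -/
theorem comp_form (hS : PSemi) [Fintype F] (h2 : (2 : F) ≠ 0) (hQ : Nondeg Q) (h9 : 9 ≤ Fintype.card ι) [Finite G]
    (ρ : ↥(Omega F ⇑Q) →* G) (hk : ρ.ker ≤ center ↥(Omega F ⇑Q)) (hn : ρ.range.Normal)
    (hc : centralizer (ρ.range : Set G) ≤ ρ.range) (hi : Odd ρ.range.index) :
    ∃ W : Subgroup G, IsCyclic ↥W ∧ Odd (Nat.card ↥W) ∧ W ⊓ ρ.range = ⊥ ∧ W ⊔ ρ.range = ⊤ ∧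
      W ⊓ centralizer (ρ.range : Set G) = ⊥ := by
  have hG : Good Q := good_of_finite hQ (by rw [Module.finrank_fintype_fun_eq_card]; omega)
  let ρ' : ↥(E Q) →* G := ρ.comp (oe hG).symm.toMonoidHom
  have hr : ρ'.range = ρ.range := by
    rw [MonoidHom.range_comp]
    have : (oe hG).symm.toMonoidHom.range = ⊤ := MonoidHom.range_eq_top.2 (oe hG).symm.surjective
    rw [this, ← MonoidHom.range_eq_map]
  have hk' : ρ'.ker ≤ center ↥(E Q) := by
    intro x hx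
    have h1 : (oe hG).symm x ∈ center ↥(Omega F ⇑Q) := hk hx
    rw [mem_center_iff] at h1 ⊢
    intro y
    apply (oe hG).symm.injective
    rw [map_mul, map_mul]
    exact h1 _
  have hn' : ρ'.range.Normal := by rw [hr]; exact hn
  have key := comp_E h2 hG ρ' hk' hn' (by rw [hr]; exact hc) (by rw [hr]; exact hi) (by
    intro g
    obtain ⟨σ, μ, T, ⟨hμ, hT, hT'⟩, h⟩ := hS h2 Q hQ h9 ρ hk g (fun x => hn.conj_mem _ ⟨x, rfl⟩ g)
    let p : ↥(SG Q) := ⟨(T.toEquiv, σ), T, μ, fun v => rfl, hμ, hT, hT'⟩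
    refine ⟨p, fun y => ?_⟩
    obtain ⟨z, hz1, hz2⟩ := h ((oe hG).symm y)
    show g * ρ ((oe hG).symm y) * g⁻¹ = ρ ((oe hG).symm (cE Q p y))
    rw [hz2]
    congr 1
    rw [MulEquiv.eq_symm_apply]
    refine ext_E fun v => ?_
    obtain ⟨v, rfl⟩ := T.surjective v
    have e1 := hz1 v
    rw [← oe_apply hG, ← oe_apply hG, MulEquiv.apply_symm_apply] at e1
    rw [e1]
    exact (cE_apply p y v).symm)
  rw [hr] at key
  exact key

end main

theorem nondeg_dqF {F : Type} [Field F] (h2 : (2 : F) ≠ 0) {n : ℕ} (c : Fin n → F) (hc : ∀ i, c i ≠ 0) :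
    Nondeg (dqF c) := by
  intro x hx
  funext i
  have h1 := hx (Pi.single i 1)
  have h3 : polar (dqF c) x (Pi.single i 1) = 2 * c i * x i := by
    simp only [QuadraticMap.polar, coe_dqF, dq, Pi.add_apply]
    rw [← Finset.sum_sub_distrib, ← Finset.sum_sub_distrib, Finset.sum_eq_single i]
    · rw [Pi.single_eq_same]; ring
    · intro j _ hj
      rw [Pi.single_eq_of_ne hj]; ring
    · intro h; exact absurd (Finset.mem_univ i) h
  rw [h3] at h1
  exact (mul_eq_zero.1 h1).resolve_left (mul_ne_zero h2 (hc i))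

/-- **Piece 13.** -/
theorem pComp : PSemi → PComp := by
  intro hS F _ _ h2 N c hN hc G _ _ ρ
  have key : ∀ (f : (Fin N → F) → F), ⇑(dqF c) = f → ∀ ρ : ↥(Omega F f) →* G, ρ.ker ≤ center ↥(Omega F f) →
      ρ.range.Normal → centralizer (ρ.range : Set G) ≤ ρ.range → Odd ρ.range.index →
      ∃ W : Subgroup G, IsCyclic ↥W ∧ Odd (Nat.card ↥W) ∧ W ⊓ ρ.range = ⊥ ∧ W ⊔ ρ.range = ⊤ ∧
        W ⊓ centralizer (ρ.range : Set G) = ⊥ := by
    rintro _ rfl ρ hk hn hcc hi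
    exact comp_form hS h2 (nondeg_dqF h2 c hc) (by rw [Fintype.card_fin]; exact hN) ρ hk hn hcc hi
  exact key _ (coe_dqF c) ρ

end Cfsg.Agent.H87.OI
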